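import Mathlib
import Cfsg.Agent.Lib.NumberTheory.Zsigmondy

/-! Auxiliary facts for separating the spectra of odd orthogonal and symplectic groups. -/

set_option autoImplicit false

namespace Cfsg.Agent.Spectra36

theorem exists_ppd {q m : ℕ} (hq : 3 ≤ q) (hm : 2 ≤ m) :
    ∃ r : ℕ, r.Prime ∧ r ∣ q ^ m + 1 ∧ ¬ r ∣ q ∧ r ≠ 2 ∧ ∀ d, r ∣ q ^ d - 1 → 2 * m ∣ d := by
  obtain ⟨r, hr, hdvd, hprim⟩ := Cfsg.Agent.NumberTheory.exists_isPrimitivePrimeDivisor (a := q) (n := 2 * m)
    (by omega) (by omega) (by omega) (by omega)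
  have hqm : 1 ≤ q ^ m := Nat.one_le_pow _ _ (by omega)
  have hfac : q ^ (2 * m) - 1 = (q ^ m + 1) * (q ^ m - 1) := by
    rw [← Nat.sq_sub_sq, one_pow, ← pow_mul, mul_comm]
  have hrm : r ∣ q ^ m + 1 := by
    rw [hfac] at hdvd
    exact (hr.dvd_mul.mp hdvd).resolve_right (hprim m (by omega) (by omega))
  have hrq : ¬ r ∣ q := fun h =>
    hr.not_dvd_one ((Nat.dvd_add_right (dvd_pow h (by omega))).mp hrm)
  refine ⟨r, hr, hrm, hrq, ?_, fun d hd => ?_⟩
  · rintro rfl
    have h1 : ¬ 2 ∣ q - 1 := fun h => hprim 1 (by omega) (by omega) (by rwa [pow_one])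
    omega
  · rcases Nat.eq_zero_or_pos d with rfl | hd0
    · simp
    have hg : r ∣ q ^ Nat.gcd d (2 * m) - 1 := by
      rw [← Nat.pow_sub_one_gcd_pow_sub_one]
      exact Nat.dvd_gcd hd hdvd
    have hle : Nat.gcd d (2 * m) ≤ 2 * m := Nat.gcd_le_right _ (by omega)
    have hpos : 1 ≤ Nat.gcd d (2 * m) := Nat.gcd_pos_of_pos_left _ hd0
    rcases hle.lt_or_eq with h | h
    · exact absurd hg (hprim _ hpos h)
    · exact h ▸ Nat.gcd_dvd_left d (2 * m)

/-- Counting fixed points of a permutation of prime order modulo the prime. -/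
theorem dvd_card_sub_one {W : Type*} [AddCommGroup W] [Finite W] {r : ℕ} [Fact r.Prime]
    (f : W →+ W) (hf : ∀ x, (⇑f)^[r] x = x) (hfix : ∀ x, f x = x → x = 0) :
    r ∣ Nat.card W - 1 := by
  classical
  let g : Function.End W := (f : W → W)
  have hit : ∀ (j : ℕ) (x : W), (g ^ j) x = (⇑f)^[j] x := by
    intro j
    induction j with
    | zero => intro x; rfl
    | succ j ih =>
      intro x
      rw [pow_succ', Function.iterate_succ_apply']
      show f ((g ^ j) x) = _
      rw [ih]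
  have h1 : g ^ r ^ 1 = 1 := by
    rw [pow_one]
    refine funext fun x => ?_
    rw [hit]
    exact hf x
  haveI : Fintype W := Fintype.ofFinite W
  have h2 := Equiv.Perm.card_fixedPoints_modEq h1
  have h3 : Fintype.card (Function.fixedPoints g) = 1 := by
    rw [Fintype.card_eq_one_iff]
    exact ⟨⟨0, (map_zero f : f 0 = 0)⟩, fun y => Subtype.ext (hfix _ y.2)⟩
  rw [Nat.card_eq_fintype_card]
  have hpos : 1 ≤ Fintype.card W := Fintype.card_pos
  have : Fintype.card W ≡ 1 [MOD r] := h2.trans (by rw [h3])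
  exact (Nat.modEq_iff_dvd' hpos).mp this.symm

theorem even_card_of_neg {W : Type*} [Finite W] (f : W → W) (hinv : ∀ x, f (f x) = x)
    (hfix : ∀ x, f x ≠ x) : Even (Nat.card W) := by
  classical
  haveI : Fintype W := Fintype.ofFinite W
  haveI : Fact (Nat.Prime 2) := ⟨Nat.prime_two⟩
  let g : Function.End W := f
  have h1 : g ^ 2 ^ 1 = 1 := by
    rw [pow_one, sq]; exact funext hinv
  have h2 := Equiv.Perm.card_fixedPoints_modEq h1
  have h3 : Fintype.card (Function.fixedPoints g) = 0 :=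
    Fintype.card_eq_zero_iff.2 ⟨fun y => hfix _ y.2⟩
  rw [Nat.card_eq_fintype_card, Nat.even_iff]
  rw [h3] at h2
  exact h2

/-- The sign of a permutation all whose non-trivial cycles have the same even length `N`. -/
theorem sign_of_semiregular {α : Type*} [Fintype α] [DecidableEq α] (σ : Equiv.Perm α) {N k : ℕ}
    (hN : Even N) (hN0 : 0 < N) (hσ : σ ^ N = 1)
    (hfree : ∀ x, σ x ≠ x → ∀ j, (σ ^ j) x = x → N ∣ j)
    (hk : σ.support.card = k * N) : Equiv.Perm.sign σ = (-1) ^ k := by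
  have hall : ∀ n ∈ σ.cycleType, n = N := by
    intro n hn
    have h1 : n ∣ N := (Equiv.Perm.dvd_of_mem_cycleType hn).trans (orderOf_dvd_of_pow_eq_one hσ)
    refine Nat.dvd_antisymm h1 ?_
    rw [Equiv.Perm.cycleType_def, Multiset.mem_map] at hn
    obtain ⟨c, hc, rfl⟩ := hn
    rw [Finset.mem_val, Equiv.Perm.mem_cycleFactorsFinset_iff] at hc
    obtain ⟨x, hx⟩ := hc.1.nonempty_support
    have hpow : ∀ j, (c ^ j) x = (σ ^ j) x := by
      intro j
      induction j with
      | zero => rfl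
      | succ j ih =>
        rw [pow_succ', pow_succ', Equiv.Perm.mul_apply, Equiv.Perm.mul_apply, ← ih]
        exact hc.2 _ (Equiv.Perm.pow_apply_mem_support.mpr hx)
    refine hfree x ?_ _ ?_
    · rw [← hc.2 x hx]; exact Equiv.Perm.mem_support.mp hx
    · show (σ ^ c.support.card) x = x
      rw [← hpow, ← hc.1.orderOf, pow_orderOf_eq_one]; rfl
  have hrep : σ.cycleType = Multiset.replicate σ.cycleType.card N :=
    Multiset.eq_replicate_card.mpr hall
  have hsum := σ.sum_cycleType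
  rw [hrep, Multiset.sum_replicate, hk, smul_eq_mul] at hsum
  have hck : σ.cycleType.card = k := Nat.eq_of_mul_eq_mul_right hN0 hsum
  rw [Equiv.Perm.sign_of_cycleType, σ.sum_cycleType, hk, hck, pow_add,
    (hN.mul_left k).neg_one_pow, one_mul]

/-- In a cyclic group of order `a * b`, every element killed by `a` is a `b`-th power. -/
theorem exists_pow_eq {C : Type*} [Group C] [Finite C] [IsCyclic C] {a b : ℕ}
    (hC : Nat.card C = a * b) {x : C} (hx : x ^ a = 1) : ∃ y : C, y ^ b = x := by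
  obtain ⟨γ, hγ⟩ := IsCyclic.exists_generator (α := C)
  obtain ⟨i, hi⟩ := mem_powers_iff_mem_zpowers.2 (hγ x)
  subst hi
  have ha : 0 < a := Nat.pos_of_ne_zero (by
    rintro rfl; exact Nat.card_pos.ne' (by rw [hC, zero_mul]))
  change (γ ^ i) ^ a = 1 at hx
  rw [← pow_mul, ← orderOf_dvd_iff_pow_eq_one, orderOf_eq_card_of_forall_mem_zpowers hγ, hC,
    mul_comm i] at hx
  obtain ⟨c, rfl⟩ := Nat.dvd_of_mul_dvd_mul_left ha hx
  exact ⟨γ ^ c, by show (γ ^ c) ^ b = γ ^ (b * c); rw [← pow_mul, mul_comm]⟩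

/-- Preimage count under a homomorphism. -/
theorem card_preimage_hom {C D : Type*} [Group C] [Group D] [Finite C] [Finite D] (f : C →* D)
    (P : D → Prop) :
    Nat.card {x : C // P (f x)} = Nat.card f.ker * Nat.card {y : f.range // P y} := by
  rw [← Nat.card_prod]
  choose s hs using fun y : f.range => MonoidHom.mem_range.mp y.2
  refine Nat.card_congr
    { toFun := fun x => (⟨(s ⟨f x, x.1, rfl⟩)⁻¹ * x, ?_⟩, ⟨⟨f x, x.1, rfl⟩, x.2⟩)
      invFun := fun p => ⟨s p.2.1 * p.1, ?_⟩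
      left_inv := fun x => Subtype.ext (by simp)
      right_inv := fun p => ?_ }
  · rw [MonoidHom.mem_ker, map_mul, map_inv, hs]; simp
  · rw [map_mul, hs, p.1.2, mul_one]; exact p.2.2
  · obtain ⟨⟨z, hz⟩, ⟨y, hy⟩⟩ := p
    have h1 : f (s y * z) = (y : D) := by rw [map_mul, hs, MonoidHom.mem_ker.mp hz, mul_one]
    simp [h1]

end Cfsg.Agent.Spectra36
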