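import Mathlib
import Cfsg.Agent.Spectra36.Tools
import Cfsg.Agent.Lib.UnitaryOrthogonal.Basic
import Cfsg.Agent.KnownSimple58.SemisimpleAlgebra

/-!
In an odd-dimensional orthogonal group over a field of odd order `q`, in dimension `2m+3` with `m ≥ 2`,
the commutator subgroup contains no element of order `p * (q^m + 1)`.
-/

set_option autoImplicit false

namespace Cfsg.Agent.Spectra36

open Module
open QuadraticMap (polar polarBilin)
open Cfsg.Agent.UnitaryOrthogonal

variable {F V : Type*} [Field F] [AddCommGroup V] [Module F V] {Q : QuadraticForm F V}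

/-- The underlying endomorphism, as a monoid homomorphism. -/
def toEnd (Q : QuadraticForm F V) : orth Q →* Module.End F V where
  toFun g := g.1.toLinearMap
  map_one' := rfl
  map_mul' _ _ := rfl

theorem toEnd_apply (g : orth Q) (x : V) : toEnd Q g x = g.1 x := rfl

theorem toEnd_injective : Function.Injective (toEnd Q) := fun _ _ h =>
  orth_ext fun x => LinearMap.congr_fun h x

/-- An orthogonal unipotent in dimension three has a single Jordan block: the commutant is scalar on
semisimple elements. -/
theorem scalar_of_commute_unipotent {U : Type*} [AddCommGroup U] [Module F U] [FiniteDimensional F U]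
    (hU : finrank F U = 3) (B : U →ₗ[F] U →ₗ[F] F) (hsymm : ∀ x y, B x y = B y x)
    (hnd : ∀ x, (∀ y, B x y = 0) → x = 0) (h2 : (2 : F) ≠ 0)
    {p : ℕ} [Fact p.Prime] [CharP F p]
    (v a : Module.End F U) (hv : ∀ x y, B (v x) (v y) = B x y)
    (hva : Commute v a) (hvp : v ^ p = 1) (hv1 : v ≠ 1) {M : ℕ} (haM : a ^ M = 1) (hMp : M.Coprime p) :
    ∃ α : F, a = α • 1 := by
  classical
  have hp : p.Prime := Fact.out
  have hp3 : 3 ≤ p := by
    by_contra h
    have : p = 2 := by have := hp.two_le; omega
    subst this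
    exact h2 (by exact_mod_cast CharP.cast_eq_zero F 2)
  haveI : Nontrivial U := Module.nontrivial_of_finrank_eq_succ hU
  haveI : CharP (Module.End F U) p := charP_of_injective_algebraMap (algebraMap F _).injective p
  set N : Module.End F U := v - 1 with hN
  have hnil : IsNilpotent N := ⟨p, by
    rw [hN, sub_pow_char_of_commute p (Commute.one_right v), hvp, one_pow, sub_self]⟩
  have hN3 : N ^ 3 = 0 := by
    have := LinearMap.aeval_self_charpoly N
    rwa [IsNilpotent.charpoly_eq_X_pow_finrank hnil, hU, map_pow, Polynomial.aeval_X] at this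
  have hrel : ∀ x y, B (N x) y + B x (N y) + B (N x) (N y) = 0 := by
    intro x y
    have h := hv x y
    have e : ∀ z, v z = z + N z := fun z => by rw [hN]; simp
    rw [e, e] at h
    simp only [map_add, LinearMap.add_apply] at h
    linear_combination h
  have hN0 : N ≠ 0 := sub_ne_zero.mpr hv1
  -- the square is non-zero
  have hN2 : N ^ 2 ≠ 0 := by
    intro h20
    have hNN : ∀ x, N (N x) = 0 := fun x => by
      rw [← Module.End.mul_apply, ← sq, h20]; rfl
    have hiso : ∀ x y, B (N x) (N y) = 0 := by
      intro x y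
      have h := hrel x (N y)
      rwa [hNN, map_zero, map_zero, add_zero, add_zero] at h
    have hskew : ∀ x y, B (N x) y + B x (N y) = 0 := fun x y => by
      have h := hrel x y
      rwa [hiso, add_zero] at h
    -- totally isotropic range has dimension at most one
    let R := LinearMap.range N
    have hRle : R ≤ LinearMap.BilinForm.orthogonal B R := by
      rintro _ ⟨y, rfl⟩ _ ⟨x, rfl⟩
      exact hiso x y
    have hB : B.Nondegenerate := ⟨hnd, fun y hy => hnd y fun x => by rw [hsymm]; exact hy x⟩
    have hdim := Submodule.finrank_mono hRle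
    rw [LinearMap.BilinForm.finrank_orthogonal hB, hU] at hdim
    have hR1 : finrank F R = 1 := by
      have : finrank F R ≠ 0 := by
        rw [ne_eq, Submodule.finrank_eq_zero]
        exact fun h => hN0 (LinearMap.range_eq_bot.mp h)
      omega
    obtain ⟨a₀, ha0, hspan⟩ := finrank_eq_one_iff'.mp hR1
    have ha0' : (a₀ : U) ≠ 0 := fun h => ha0 (Subtype.ext h)
    choose f hf using fun x => hspan ⟨N x, LinearMap.mem_range_self N x⟩
    have hf' : ∀ x, N x = f x • (a₀ : U) := fun x => (congrArg Subtype.val (hf x)).symm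
    have hprod : ∀ x, f x = 0 ∨ B a₀ x = 0 := by
      intro x
      have h := hskew x x
      rw [hsymm x (N x), ← two_mul, hf', map_smul, LinearMap.smul_apply, smul_eq_mul] at h
      exact mul_eq_zero.mp ((mul_eq_zero.mp h).resolve_left h2)
    obtain ⟨x1, hx1⟩ : ∃ x, f x ≠ 0 := by
      by_contra hall; push Not at hall
      exact hN0 (LinearMap.ext fun x => by rw [hf', hall, zero_smul]; rfl)
    obtain ⟨x2, hx2⟩ : ∃ x, B a₀ x ≠ 0 := by
      by_contra hall; push Not at hall
      exact ha0' (hnd _ hall)
    have hB1 := (hprod x1).resolve_left hx1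
    have hf2 := (hprod x2).resolve_right hx2
    have hfadd : f (x1 + x2) = f x1 + f x2 := by
      refine smul_left_injective F ha0' ?_
      show f (x1 + x2) • (a₀ : U) = (f x1 + f x2) • (a₀ : U)
      rw [← hf', map_add, hf', hf', add_smul]
    rcases hprod (x1 + x2) with h | h
    · rw [hfadd, hf2, add_zero] at h; exact hx1 h
    · rw [map_add, hB1, zero_add] at h; exact hx2 h
  -- cyclic vector
  obtain ⟨w, hw⟩ : ∃ w, (N ^ 2) w ≠ 0 := by
    by_contra hall; push Not at hall
    exact hN2 (LinearMap.ext hall)
  have h1 : N ((N ^ 2) w) = 0 := by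
    rw [← Module.End.mul_apply, ← pow_succ', hN3]; rfl
  have h2' : N (N w) = (N ^ 2) w := by rw [sq]; rfl
  have hli : LinearIndependent F ![w, N w, (N ^ 2) w] := by
    rw [Fintype.linearIndependent_iff]
    intro c hc
    simp only [Fin.sum_univ_three, Matrix.cons_val_zero, Matrix.cons_val_one, Matrix.head_cons,
      Matrix.cons_val_two, Matrix.tail_cons] at hc
    have hA := congrArg N (congrArg N hc)
    simp only [map_add, map_smul, map_zero, h2', h1, smul_zero, add_zero] at hA
    have hc0 : c 0 = 0 := (smul_eq_zero.mp hA).resolve_right hw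
    rw [hc0, zero_smul, zero_add] at hc
    have hA' := congrArg N hc
    simp only [map_add, map_smul, map_zero, h2', h1, smul_zero, add_zero] at hA'
    have hc1 : c 1 = 0 := (smul_eq_zero.mp hA').resolve_right hw
    rw [hc1, zero_smul, zero_add] at hc
    have hc2 : c 2 = 0 := (smul_eq_zero.mp hc).resolve_right hw
    intro i; fin_cases i <;> assumption
  let b := basisOfLinearIndependentOfCardEqFinrank hli (by rw [Fintype.card_fin, hU])
  have hb : ⇑b = ![w, N w, (N ^ 2) w] := coe_basisOfLinearIndependentOfCardEqFinrank _ _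
  have hNa : Commute N a := hva.sub_left (Commute.one_left a)
  obtain ⟨c, hc⟩ : ∃ c : Fin 3 → F, a w = c 0 • w + c 1 • N w + c 2 • (N ^ 2) w := by
    refine ⟨fun i => b.repr (a w) i, ?_⟩
    conv_lhs => rw [← b.sum_repr (a w)]
    rw [Fin.sum_univ_three, hb]
    simp
  have ha : a = c 0 • (1 : Module.End F U) + (c 1 • N + c 2 • N ^ 2) := by
    refine b.ext fun i => ?_
    have key : ∀ (j : ℕ), a ((N ^ j) w) = (N ^ j) (a w) := fun j => by
      have := (hNa.pow_left j).eq
      exact (LinearMap.congr_fun this w).symm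
    have e : (c 0 • (1 : Module.End F U) + (c 1 • N + c 2 • N ^ 2)) w = a w := by
      rw [hc]; simp [add_assoc]
    have hcomm : ∀ j : ℕ, Commute (N ^ j) (c 0 • (1 : Module.End F U) + (c 1 • N + c 2 • N ^ 2)) :=
      fun j => ((Commute.one_right _).smul_right _).add_right
        ((((Commute.refl N).pow_left j).smul_right _).add_right
          ((((Commute.refl N).pow_pow j 2)).smul_right _))
    have key2 : ∀ j : ℕ, a ((N ^ j) w) =
        (c 0 • (1 : Module.End F U) + (c 1 • N + c 2 • N ^ 2)) ((N ^ j) w) := fun j => by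
      rw [key, ← e]
      exact LinearMap.congr_fun (hcomm j).eq w
    rw [hb]
    fin_cases i
    · simpa using key2 0
    · simpa using key2 1
    · simpa using key2 2
  have hMap : a ^ p = c 0 ^ p • (1 : Module.End F U) + (c 1 • N + c 2 • N ^ 2) ^ p := by
    rw [ha, add_pow_char_of_commute p ((Commute.one_left _).smul_left _), smul_pow, one_pow]
  have hnp : (c 1 • N + c 2 • N ^ 2) ^ p = 0 := by
    have : c 1 • N + c 2 • N ^ 2 = N * (c 1 • (1 : Module.End F U) + c 2 • N) := by
      rw [mul_add, mul_smul_comm, mul_smul_comm, mul_one, ← sq]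
    rw [this, ((((Commute.one_right N)).smul_right _).add_right ((Commute.refl N).smul_right _)).mul_pow,
      show p = 3 + (p - 3) by omega, pow_add, hN3, zero_mul, zero_mul]
  rw [hnp, add_zero] at hMap
  obtain ⟨i, hi⟩ : ∃ i : ℕ, a = (a ^ p) ^ i := by
    rcases Nat.eq_or_lt_of_le (Nat.one_le_iff_ne_zero.mpr fun h : M = 0 =>
      hp.ne_one (by rw [h] at hMp; simpa [Nat.Coprime] using hMp)) with hM1 | hM1
    · exact ⟨0, by rw [pow_zero, ← pow_one a, hM1, haM]⟩
    · obtain ⟨i, hi⟩ := Nat.exists_mul_mod_eq_one_of_coprime hMp.symm hM1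
      refine ⟨i, ?_⟩
      conv_lhs => rw [← pow_one a]
      rw [← pow_mul, ← Nat.mod_add_div (p * i) M, hi.2, pow_add, pow_mul a M, haM, one_pow, mul_one]
  exact ⟨(c 0 ^ p) ^ i, by rw [hi, hMap, smul_pow, one_pow]⟩

end Cfsg.Agent.Spectra36
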