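import Mathlib
import Cfsg.Agent.Spectra36.OrthCore

/-!
The field generated by an isometry of prime order acting irreducibly on a non-degenerate symmetric space.
-/

set_option autoImplicit false

namespace Cfsg.Agent.Spectra36

open Module

universe u v

variable {F : Type u} [Field F] [Fintype F] {W : Type v} [AddCommGroup W] [Module F W] [FiniteDimensional F W]

/-- An irreducible endomorphism generates a field, which is the whole commutant. -/
theorem exists_field_model [Nontrivial W] (T : Module.End F W)
    (hirr : ∀ X : Submodule F W, (∀ x ∈ X, T x ∈ X) → X ≠ ⊥ → X = ⊤) :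
    ∃ (K : Type v) (_ : Field K) (_ : Algebra F K) (ι : K →ₐ[F] Module.End F W), Finite K ∧
      Function.Injective ι ∧ T ∈ ι.range ∧ (∀ k, ι k ∈ Algebra.adjoin F ({T} : Set (Module.End F W))) ∧
      (∀ X, Commute X T → X ∈ ι.range) ∧
      (∀ k : K, k ≠ 0 → ∀ x, ι k x = 0 → x = 0) ∧
      (∀ w : W, w ≠ 0 → Function.Bijective fun k => ι k w) := by
  classical
  let A := Algebra.adjoin F ({T} : Set (Module.End F W))
  haveI : Finite W := Module.finite_of_finite F
  haveI : Finite (Module.End F W) := Finite.of_injective (fun f => (f : W → W)) DFunLike.coe_injective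
  haveI : Finite A := Finite.of_injective _ Subtype.val_injective
  have hc : ∀ k : A, Commute (k : Module.End F W) T := fun k =>
    (Algebra.commute_of_mem_adjoin_self k.2).symm
  have hcomm : ∀ a b : A, a * b = b * a := fun a b =>
    Subtype.ext (Algebra.commute_of_mem_adjoin_singleton_of_commute b.2 (hc a)).eq
  have hinj : ∀ k : A, k ≠ 0 → ∀ x, (k : Module.End F W) x = 0 → x = 0 := by
    intro k hk x hx
    by_contra hx0
    have hker := hirr (LinearMap.ker (k : Module.End F W)) (fun y hy => by
      rw [LinearMap.mem_ker] at hy ⊢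
      rw [← Module.End.mul_apply, (hc k).eq, Module.End.mul_apply, hy, map_zero]) (fun h => by
      have : x ∈ LinearMap.ker (k : Module.End F W) := hx
      rw [h] at this; exact hx0 this)
    exact hk (Subtype.ext (LinearMap.ker_eq_top.mp hker))
  obtain ⟨w1, hw1⟩ := exists_ne (0 : W)
  have hnontriv : Nontrivial A := ⟨⟨0, 1, fun h => hw1
    (LinearMap.congr_fun (congrArg Subtype.val h.symm) w1)⟩⟩
  have hfield : IsField A := by
    refine ⟨hnontriv.exists_pair_ne, hcomm, fun {a} ha => ?_⟩
    have hsurj : Function.Surjective fun b : A => a * b := by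
      refine Finite.injective_iff_surjective.mp fun b c hbc => ?_
      by_contra hne
      have h0 : a * (b - c) = 0 := by rw [mul_sub, sub_eq_zero]; exact hbc
      have h1 := hinj (b - c) (sub_ne_zero.mpr hne) w1 (hinj a ha _
        (LinearMap.congr_fun (congrArg Subtype.val h0) w1))
      exact hw1 h1
    exact hsurj 1
  let T' : A := ⟨T, Algebra.self_mem_adjoin_singleton F T⟩
  have hbij : ∀ w : W, w ≠ 0 → Function.Bijective fun k : A => (k : Module.End F W) w := by
    intro w hw
    refine ⟨fun a b h => by_contra fun hne => hw (hinj (a - b) (sub_ne_zero.mpr hne) w ?_), fun y => ?_⟩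
    · show (a : Module.End F W) w - (b : Module.End F W) w = 0
      exact sub_eq_zero.mpr h
    let ev : A →ₗ[F] W :=
      { toFun := fun k => (k : Module.End F W) w
        map_add' := fun _ _ => rfl
        map_smul' := fun _ _ => rfl }
    have htop : LinearMap.range ev = ⊤ := hirr _ (by rintro _ ⟨k, rfl⟩; exact ⟨T' * k, rfl⟩)
      (fun h => by
        have : w ∈ LinearMap.range ev := ⟨1, rfl⟩
        rw [h] at this; exact hw this)
    exact LinearMap.range_eq_top.mp htop y
  have hall : ∀ X, Commute X T → X ∈ A := by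
    intro X hX
    obtain ⟨k, hk⟩ := (hbij w1 hw1).2 (X w1)
    suffices X = (k : Module.End F W) by rw [this]; exact k.2
    refine LinearMap.ext fun y => ?_
    obtain ⟨l, rfl⟩ := (hbij w1 hw1).2 y
    show (X * (l : Module.End F W)) w1 = ((k * l : A) : Module.End F W) w1
    rw [(Algebra.commute_of_mem_adjoin_singleton_of_commute l.2 hX).eq, hcomm k l]
    show (l : Module.End F W) (X w1) = (l : Module.End F W) ((k : Module.End F W) w1)
    rw [← hk]
  refine ⟨A, hfield.toField, A.algebra, ?_⟩
  exact ⟨A.val, inferInstance, Subtype.val_injective, ⟨T', rfl⟩, fun k => k.2, fun X hX => ⟨⟨X, hall X hX⟩, rfl⟩, hinj, hbij⟩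

/-- The torus: isometries commuting with an irreducible isometry of odd prime order, in dimension `2m`. -/
theorem torus_field {m : ℕ} (hdim : finrank F W = 2 * m) (hm : 0 < m)
    (B : W →ₗ[F] W →ₗ[F] F) (hsymm : ∀ x y, B x y = B y x) (hnd : ∀ x, (∀ y, B x y = 0) → x = 0)
    (T : Module.End F W) (hT : ∀ x y, B (T x) (T y) = B x y) {r : ℕ} (hr : r.Prime) (hr2 : r ≠ 2)
    (hTr : T ^ r = 1) (hT1 : T ≠ 1)
    (hirr : ∀ X : Submodule F W, (∀ x ∈ X, T x ∈ X) → X ≠ ⊥ → X = ⊤) :
    ∃ (K : Type v) (_ : Field K) (_ : Algebra F K) (ι : K →ₐ[F] Module.End F W),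
      Finite K ∧ Function.Injective ι ∧ Module.finrank F K = 2 * m ∧
      (∀ k : K, k ≠ 0 → ∀ x, ι k x = 0 → x = 0) ∧
      (∀ w : W, w ≠ 0 → Function.Bijective fun k => ι k w) ∧
      (∀ X : Module.End F W, Commute X T → (∀ x y, B (X x) (X y) = B x y) →
        ∃ k : K, ι k = X ∧ k ^ (Fintype.card F ^ m + 1) = 1) ∧
      (∀ k x y, B (ι k x) (ι k y) = B x (ι (k ^ (Fintype.card F ^ m + 1)) y)) := by
  classical
  haveI : Nontrivial W := Module.nontrivial_of_finrank_pos (R := F) (by omega)
  obtain ⟨K, hKf, hKa, ι, hfin, hι, ⟨TK, hTK⟩, hmemA, hrange, hinj, hbij⟩ := exists_field_model T hirr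
  haveI := hfin
  obtain ⟨w0, hw0⟩ := exists_ne (0 : W)
  let ev : K ≃ₗ[F] W := LinearEquiv.ofBijective
    { toFun := fun k => ι k w0
      map_add' := fun a b => by rw [map_add, LinearMap.add_apply]
      map_smul' := fun c a => by rw [map_smul, LinearMap.smul_apply, RingHom.id_apply] } (hbij w0 hw0)
  have hKdim : finrank F K = 2 * m := ev.finrank_eq.trans hdim
  haveI : Module.Finite F K := Module.Finite.of_finite
  have hTr' : TK ^ r = 1 := hι (by rw [map_pow, map_one, show ι TK = T from hTK, hTr])
  -- the adjoint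
  have hsep : ∀ y y' : W, (∀ x, B x y = B x y') → y = y' := fun y y' h =>
    sub_eq_zero.mp (hnd _ fun x => by rw [hsymm, map_sub, h, sub_self])
  have hadjT : ∀ x y, B (T x) y = B x ((ι (TK ^ (r - 1))) y) := by
    intro x y
    rw [map_pow, show ι TK = T from hTK, ← hT x ((T ^ (r - 1)) y), ← Module.End.mul_apply, ← pow_succ',
      Nat.sub_add_cancel hr.one_le, hTr, Module.End.one_apply]
  let S : Set (Module.End F W) := {X | ∃ k' : K, ∀ x y, B (X x) y = B x (ι k' y)}
  have hadj : ∀ k : K, ι k ∈ S := by
    have hSalg : ∀ X ∈ Algebra.adjoin F ({T} : Set (Module.End F W)), X ∈ S := by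
      intro X hX
      induction hX using Algebra.adjoin_induction with
      | mem x hx => rw [Set.mem_singleton_iff] at hx; subst hx; exact ⟨_, hadjT⟩
      | algebraMap c =>
        refine ⟨algebraMap F K c, fun a b => ?_⟩
        rw [AlgHom.commutes, Module.algebraMap_end_apply, Module.algebraMap_end_apply, map_smul,
          LinearMap.smul_apply, map_smul]
      | add x y _ _ hx hy =>
        obtain ⟨x', hx'⟩ := hx
        obtain ⟨y', hy'⟩ := hy
        refine ⟨x' + y', fun a b => ?_⟩
        simp only [LinearMap.add_apply, map_add, hx', hy']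
      | mul x y _ _ hx hy =>
        obtain ⟨x', hx'⟩ := hx
        obtain ⟨y', hy'⟩ := hy
        refine ⟨y' * x', fun a b => ?_⟩
        rw [Module.End.mul_apply, hx', hy', map_mul, Module.End.mul_apply]
    intro k
    exact hSalg _ (hmemA k)
  choose σf hσf using hadj
  have huniq : ∀ k k' : K, (∀ x y, B (ι k x) y = B x (ι k' y)) → σf k = k' := fun k k' h =>
    hι (LinearMap.ext fun y => hsep _ _ fun x => (hσf k x y).symm.trans (h x y))
  let σ : K →ₐ[F] K :=
    { toFun := σf
      map_one' := huniq 1 1 fun x y => by simp only [map_one, Module.End.one_apply]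
      map_mul' := fun a b => huniq (a * b) (σf a * σf b) fun x y => by
        rw [mul_comm (σf a), map_mul, map_mul, Module.End.mul_apply, hσf, hσf, Module.End.mul_apply]
      map_zero' := huniq 0 0 fun x y => by simp
      map_add' := fun a b => huniq (a + b) (σf a + σf b) fun x y => by
        simp only [map_add, LinearMap.add_apply, hσf]
      commutes' := fun c => huniq _ _ fun x y => by
        rw [AlgHom.commutes, Module.algebraMap_end_apply, Module.algebraMap_end_apply, map_smul,
          LinearMap.smul_apply, map_smul] }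
  have hσ : ∀ k x y, B (ι k x) y = B x (ι (σ k) y) := hσf
  have hσσ : ∀ k, σ (σ k) = k := fun k => huniq _ _ fun x y => by
    rw [hsymm, ← hσ k y x, hsymm]
  have hiso : ∀ k : K, (∀ x y, B (ι k x) (ι k y) = B x y) → σ k * k = 1 := fun k h =>
    hι (LinearMap.ext fun y => hsep _ _ fun x => by
      rw [map_mul, Module.End.mul_apply, ← hσ, h, map_one, Module.End.one_apply])
  have hσT : σ TK ≠ TK := by
    intro h
    have h1 := hiso TK (fun x y => by rw [show ι TK = T from hTK, hT])
    rw [h, ← sq] at h1
    apply hT1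
    have hcop : Nat.gcd 2 r = 1 := (Nat.coprime_primes Nat.prime_two hr).mpr hr2.symm
    have := pow_gcd_eq_one.mpr ⟨h1, hTr'⟩
    rw [hcop, pow_one] at this
    rw [← hTK]
    show ι TK = 1
    rw [this, map_one]
  obtain ⟨j, hj, hσpow⟩ := Cfsg.Agent.KS58.Semi.involution_field (Field.toIsField K) σ hσσ TK hσT
  obtain rfl : j = m := by omega
  refine ⟨K, hKf, hKa, ι, hfin, hι, hKdim, hinj, hbij, fun X hX hXB => ?_, fun k x y => ?_⟩
  · obtain ⟨k, hk⟩ := hrange X hX
    have hk' : ι k = X := hk
    refine ⟨k, hk', ?_⟩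
    have := hiso k (fun x y => by rw [hk', hXB])
    rw [pow_succ, ← hσpow]
    exact this
  · rw [hσ k x (ι k y), pow_succ, ← hσpow, map_mul, Module.End.mul_apply]

end Cfsg.Agent.Spectra36
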