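import Mathlib
import Cfsg.Agent.Spectra36.TorusField

/-!
No element of order `p * (q^m + 1)` in the commutator subgroup of an orthogonal group of dimension `2m+3`.
-/

set_option autoImplicit false

namespace Cfsg.Agent.Spectra36

open Module
open QuadraticMap (polar polarBilin)
open Cfsg.Agent.UnitaryOrthogonal

variable {F V : Type*} [Field F] [AddCommGroup V] [Module F V] {Q : QuadraticForm F V}

section Count

variable {W : Type*} [AddCommGroup W] [Module F W]

/-- The number, up to the factor `N`, of non-zero vectors on a level set, for a form given by a norm. -/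
theorem level_parity [Finite F] (hodd : Odd (Nat.card F)) {K : Type*} [Field K] [Algebra F K] [Finite K]
    {m N : ℕ} (hN : N = Nat.card F ^ m + 1) (hm : 0 < m) (hK : Nat.card K = Nat.card F ^ (2 * m))
    (QW : W → F) (ψ : K ≃+ W) (φ : K →ₗ[F] F)
    (hQ : ∀ k, QW (ψ k) = φ (k ^ N)) (hne : ∃ k, QW (ψ k) ≠ 0) (c : F) :
    ∃ z, Nat.card {w : W // w ≠ 0 ∧ QW w = c} = N * z ∧ (Even z ↔ c = 0) := by
  classical
  haveI : Fintype K := Fintype.ofFinite K
  haveI : Fintype F := Fintype.ofFinite F
  set q := Nat.card F with hq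
  have hq1 : 1 < q := Finite.one_lt_card
  have hqm : 1 ≤ q ^ m := Nat.one_le_pow _ _ (by omega)
  have hcardU : Nat.card Kˣ = (q ^ m - 1) * N := by
    rw [Nat.card_units, hK, hN, mul_comm (q ^ m - 1), ← Nat.sq_sub_sq, one_pow, ← pow_mul, mul_comm m]
  let f : Kˣ →* Kˣ := powMonoidHom N
  -- the fixed field
  let frob : K →ₗ[F] K := ((FiniteField.frobeniusAlgEquivOfAlgebraic F K) ^ m).toLinearMap
  have hfrob : ∀ y, frob y = y ^ q ^ m := fun y => by
    show ((FiniteField.frobeniusAlgEquivOfAlgebraic F K) ^ m) y = _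
    rw [AlgEquiv.coe_pow, FiniteField.coe_frobeniusAlgEquivOfAlgebraic, pow_iterate, hq,
      Nat.card_eq_fintype_card]
  let K0 : Submodule F K := LinearMap.ker (frob - LinearMap.id)
  have hK0 : ∀ y, y ∈ K0 ↔ y ^ q ^ m = y := fun y => by
    rw [LinearMap.mem_ker, LinearMap.sub_apply, LinearMap.id_apply, sub_eq_zero, hfrob]
  have hrange : ∀ y : Kˣ, y ∈ f.range ↔ (y : K) ∈ K0 := by
    intro y
    rw [hK0]
    constructor
    · rintro ⟨x, rfl⟩
      show ((x ^ N : Kˣ) : K) ^ q ^ m = ((x ^ N : Kˣ) : K)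
      have h : (x ^ N) ^ (q ^ m - 1) = 1 := by
        rw [← pow_mul, mul_comm, ← hcardU, pow_card_eq_one']
      have h' := congrArg (Units.val) h
      rw [Units.val_pow_eq_pow_val, Units.val_one] at h'
      conv_lhs => rw [← Nat.sub_add_cancel hqm, pow_succ, h', one_mul]
    · intro h
      have h' : y ^ (q ^ m - 1) = 1 := Units.ext (by
        rw [Units.val_pow_eq_pow_val, Units.val_one]
        refine mul_right_cancel₀ y.ne_zero ?_
        rw [← pow_succ, Nat.sub_add_cancel hqm, h, one_mul])
      obtain ⟨x, hx⟩ := exists_pow_eq hcardU h'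
      exact ⟨x, hx⟩
  have hker : Nat.card f.ker = N := by
    show Nat.card (powMonoidHom N : Kˣ →* Kˣ).ker = N
    rw [IsCyclic.card_powMonoidHom_ker, hcardU]
    exact Nat.gcd_eq_right (Dvd.intro_left _ rfl)
  let φ0 : K0 →ₗ[F] F := φ.comp K0.subtype
  have hφ0 : φ0 ≠ 0 := by
    intro h0
    obtain ⟨k, hk⟩ := hne
    have hk0 : k ≠ 0 := by
      rintro rfl; apply hk
      rw [hQ, zero_pow (by omega), map_zero]
    have hmem : ((Units.mk0 k hk0 ^ N : Kˣ) : K) ∈ K0 := (hrange _).mp ⟨Units.mk0 k hk0, rfl⟩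
    have := LinearMap.congr_fun h0 ⟨_, hmem⟩
    rw [Units.val_pow_eq_pow_val, Units.val_mk0] at hmem
    apply hk
    rw [hQ]
    simpa [φ0] using this
  obtain ⟨y0, hy0⟩ := LinearMap.surjective hφ0 c
  have hfibre : Nat.card {y : K0 // φ0 y = c} = Nat.card (LinearMap.ker φ0) := by
    refine Nat.card_congr
      { toFun := fun y => ⟨y.1 - y0, by rw [LinearMap.mem_ker, map_sub, y.2, hy0, sub_self]⟩
        invFun := fun y => ⟨y.1 + y0, by rw [map_add, LinearMap.mem_ker.mp y.2, hy0, zero_add]⟩
        left_inv := fun y => Subtype.ext (by simp)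
        right_inv := fun y => Subtype.ext (by simp) }
  have hoddker : Odd (Nat.card (LinearMap.ker φ0)) := by
    have hdvd : Nat.card (LinearMap.ker φ0) ∣ Nat.card K :=
      (AddSubgroup.card_addSubgroup_dvd_card (LinearMap.ker φ0).toAddSubgroup :
        Nat.card (LinearMap.ker φ0) ∣ Nat.card K0).trans
      (AddSubgroup.card_addSubgroup_dvd_card K0.toAddSubgroup)
    rw [hK] at hdvd
    exact hodd.pow.of_dvd_nat hdvd
  refine ⟨Nat.card {y : f.range // φ ((y : Kˣ) : K) = c}, ?_, ?_⟩
  · rw [← hker, ← card_preimage_hom f (fun y : Kˣ => φ (y : K) = c)]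
    refine Nat.card_congr
      { toFun := fun w => ⟨Units.mk0 (ψ.symm w.1) (by simp [w.2.1]), ?_⟩
        invFun := fun x => ⟨ψ ((x.1 : Kˣ) : K), by simp, ?_⟩
        left_inv := fun w => Subtype.ext (by simp)
        right_inv := fun x => Subtype.ext (Units.ext (by simp)) }
    · show φ ((Units.mk0 (ψ.symm w.1) _ ^ N : Kˣ) : K) = c
      rw [Units.val_pow_eq_pow_val, Units.val_mk0, ← hQ, AddEquiv.apply_symm_apply]
      exact w.2.2
    · rw [hQ]; exact (by simpa [f] using x.2)
  · have e : Nat.card {y : f.range // φ ((y : Kˣ) : K) = c} + (if c = 0 then 1 else 0) =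
        Nat.card {y : K0 // φ0 y = c} := by
      let e1 : {y : f.range // φ ((y : Kˣ) : K) = c} ≃ {y : {y : K0 // φ0 y = c} // ((y.1 : K0) : K) ≠ 0} :=
        { toFun := fun y => ⟨⟨⟨((y.1 : Kˣ) : K), (hrange _).mp y.1.2⟩, y.2⟩, Units.ne_zero _⟩
          invFun := fun y => ⟨⟨Units.mk0 _ y.2, (hrange _).mpr y.1.1.2⟩, y.1.2⟩
          left_inv := fun y => Subtype.ext (Subtype.ext (Units.ext rfl))
          right_inv := fun y => rfl }
      have e2 : Nat.card {y : {y : K0 // φ0 y = c} // ((y.1 : K0) : K) = 0} = if c = 0 then 1 else 0 := by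
        split_ifs with hc
        · rw [Nat.card_eq_one_iff_unique]
          refine ⟨⟨fun a b => Subtype.ext (Subtype.ext (Subtype.ext (a.2.trans b.2.symm)))⟩,
            ⟨⟨⟨0, by rw [map_zero, hc]⟩, rfl⟩⟩⟩
        · rw [Nat.card_eq_zero]
          refine Or.inl ⟨fun a => hc ?_⟩
          have h := a.1.2
          rw [show a.1.1 = 0 from Subtype.ext a.2, map_zero] at h
          exact h.symm
      rw [Nat.card_congr e1, ← e2, ← Nat.card_sum]
      exact Nat.card_congr ((Equiv.sumComm _ _).trans (Equiv.sumCompl _))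
    rw [hfibre] at e
    rw [Nat.even_iff]
    have := Nat.odd_iff.mp hoddker
    by_cases hc : c = 0
    · rw [if_pos hc] at e; exact ⟨fun _ => hc, fun _ => by omega⟩
    · rw [if_neg hc] at e; exact ⟨fun h => by exfalso; omega, fun h => absurd h hc⟩

end Count

variable [FiniteDimensional F V]

theorem map_eq_one_of_mem_commutator {H M : Type*} [Group H] [CommMonoid M] (χ : H →* M) {g : H}
    (hg : g ∈ commutator H) : χ g = 1 := by
  have hle : commutator H ≤ χ.toHomUnits.ker := Abelianization.commutator_subset_ker _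
  exact congrArg Units.val (MonoidHom.mem_ker.mp (hle hg))

/-- Determinant on the orthogonal group. -/
noncomputable def detHom (Q : QuadraticForm F V) : orth Q →* F :=
  LinearMap.det.comp (toEnd Q)

set_option maxHeartbeats 1000000 in
theorem no_element_of_order [Fintype F] {p : ℕ} [Fact p.Prime] [CharP F p] (hodd : Odd (Fintype.card F))
    {m : ℕ} (hm : 2 ≤ m) (hdim : finrank F V = 2 * m + 3) (hnd : PolarND Q) (g : orth Q)
    (hg : g ∈ commutator (orth Q)) : orderOf g ≠ p * (Fintype.card F ^ m + 1) := by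
  classical
  intro hord
  have hp : p.Prime := Fact.out
  set q := Fintype.card F with hq
  set N := q ^ m + 1 with hN
  have h2 : (2 : F) ≠ 0 := two_ne_zero_of_card_odd hodd
  obtain ⟨e, -, hqe⟩ := FiniteField.card F p
  have hpq : p ∣ q := by rw [hq, hqe]; exact dvd_pow_self p e.pos.ne'
  have hq3 : 3 ≤ q := by
    have := Fintype.one_lt_card (α := F)
    obtain ⟨k, hk⟩ := hodd
    omega
  have hpN : p.Coprime N := hp.coprime_iff_not_dvd.mpr fun h =>
    hp.not_dvd_one ((Nat.dvd_add_right (dvd_pow hpq (by omega))).mp h)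
  have hNeven : Even N := (hodd.pow).add_one
  have hN0 : 0 < N := Nat.succ_pos _
  haveI : Finite V := Module.finite_of_finite F
  haveI : Fintype V := Fintype.ofFinite V
  obtain ⟨r, hr, hrN, hrq, hr2, hrd⟩ := exists_ppd hq3 hm
  haveI : Fact r.Prime := ⟨hr⟩
  set s := g ^ p with hsdef
  set u := g ^ N with hudef
  have hs : orderOf s = N := by
    rw [hsdef, orderOf_pow' g hp.ne_zero, hord, Nat.gcd_eq_right (Dvd.intro _ rfl),
      Nat.mul_div_cancel_left _ hp.pos]
  have hu : orderOf u = p := by
    rw [hudef, orderOf_pow' g hN0.ne', hord, Nat.gcd_eq_right (Dvd.intro_left _ rfl),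
      Nat.mul_div_cancel _ hN0]
  set t := s ^ (N / r) with htdef
  have ht : orderOf t = r := by
    rw [htdef, ← hs]
    exact orderOf_pow_orderOf_div (by rw [hs]; exact hN0.ne') (by rw [hs]; exact hrN)
  set T := toEnd Q t with hTdef
  have hTr : T ^ r = 1 := by rw [hTdef, ← map_pow, ← ht, pow_orderOf_eq_one, map_one]
  set U : Submodule F V := LinearMap.ker (T - 1) with hUdef
  set W : Submodule F V := LinearMap.range (T - 1) with hWdef
  have hmemU : ∀ x, x ∈ U ↔ T x = x := fun x => by
    rw [hUdef, LinearMap.mem_ker, LinearMap.sub_apply, Module.End.one_apply, sub_eq_zero]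
  have hrF : (r : F) ≠ 0 := fun h => hrq <| by
    rw [CharP.cast_eq_zero_iff F p r, Nat.prime_dvd_prime_iff_eq hp hr] at h
    exact h ▸ hpq
  have hdisj : Disjoint U W := by
    rw [Submodule.disjoint_def]
    rintro x hx ⟨z, rfl⟩
    set x := (T - 1) z
    have h1 : ∀ j : ℕ, (T ^ j) x = x := by
      intro j; induction j with
      | zero => rfl
      | succ j ih => rw [pow_succ, Module.End.mul_apply, (hmemU x).mp hx, ih]
    have h2' : (∑ i ∈ Finset.range r, T ^ i) x = (r : F) • x := by
      rw [LinearMap.sum_apply, Finset.sum_congr rfl (fun i _ => h1 i), Finset.sum_const,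
        Finset.card_range, ← Nat.cast_smul_eq_nsmul F]
    have h3 : (∑ i ∈ Finset.range r, T ^ i) x = 0 := by
      show ((∑ i ∈ Finset.range r, T ^ i) * (T - 1)) z = 0
      rw [geom_sum_mul, hTr, sub_self]; rfl
    exact (smul_eq_zero.mp (h2'.symm.trans h3)).resolve_left hrF
  have hcompl : IsCompl U W := by
    refine ⟨hdisj, codisjoint_iff.mpr (Submodule.eq_top_of_finrank_eq ?_)⟩
    have h := Submodule.finrank_sup_add_finrank_inf_eq U W
    rw [hdisj.eq_bot, finrank_bot] at h
    have h' := LinearMap.finrank_range_add_finrank_ker (T - 1)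
    rw [← hUdef, ← hWdef] at h'
    omega
  have hperp : ∀ x ∈ U, ∀ y ∈ W, polar Q x y = 0 := by
    rintro x hx _ ⟨z, rfl⟩
    have hx' : t.1 x = x := (hmemU x).mp hx
    rw [LinearMap.sub_apply, Module.End.one_apply, sub_eq_add_neg]
    have := map_polar t x z
    rw [hx'] at this
    rw [hTdef, toEnd_apply, QuadraticMap.polar_add_right, QuadraticMap.polar_neg_right, this, add_neg_cancel]
  have hinv : ∀ h : orth Q, Commute h t → (∀ x ∈ U, toEnd Q h x ∈ U) ∧ (∀ x ∈ W, toEnd Q h x ∈ W) := by
    intro h hc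
    have hc' : ∀ z, toEnd Q h (T z) = T (toEnd Q h z) := fun z => by
      show (toEnd Q h * T) z = (T * toEnd Q h) z
      rw [hTdef, ← map_mul, ← map_mul, hc.eq]
    refine ⟨fun x hx => ?_, ?_⟩
    · rw [hmemU] at hx ⊢; rw [← hc', hx]
    · rintro x ⟨z, rfl⟩
      refine ⟨toEnd Q h z, ?_⟩
      simp only [LinearMap.sub_apply, Module.End.one_apply, map_sub, hc']
  -- decomposition of vectors
  let dec : (U × W) ≃ₗ[F] V := Submodule.prodEquivOfIsCompl U W hcompl
  have hdec : ∀ x : U × W, dec x = (x.1 : V) + (x.2 : V) := fun x => rfl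
  have hQadd : ∀ (x : U) (y : W), Q ((x : V) + y) = Q x + Q y := fun x y => by
    rw [QuadraticMap.map_add Q, hperp _ x.2 _ y.2, add_zero]
  have hndU : ∀ x : U, (∀ y : U, polar Q (x : V) y = 0) → x = 0 := fun x hx => by
    refine Subtype.ext (hnd x fun z => ?_)
    obtain ⟨⟨a, b⟩, rfl⟩ := dec.surjective z
    rw [hdec, QuadraticMap.polar_add_right, hx a, hperp _ x.2 _ b.2, add_zero]
  have hndW : ∀ x : W, (∀ y : W, polar Q (x : V) y = 0) → x = 0 := fun x hx => by
    refine Subtype.ext (hnd x fun z => ?_)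
    obtain ⟨⟨a, b⟩, rfl⟩ := dec.surjective z
    rw [hdec, QuadraticMap.polar_add_right, hx b, QuadraticMap.polar_comm, hperp _ a.2 _ x.2, add_zero]
  have hT1 : T ≠ 1 := fun h => by
    have : t = 1 := toEnd_injective (by rw [map_one]; exact h)
    rw [this, orderOf_one] at ht
    exact hr.ne_one ht.symm
  have hWbot : W ≠ ⊥ := fun h => hT1 (sub_eq_zero.mp (LinearMap.range_eq_bot.mp h))
  have hdvd : ∀ X : Submodule F V, X ≤ W → (∀ x ∈ X, T x ∈ X) → 2 * m ∣ finrank F X := by
    intro X hX hXT
    haveI : Finite X := Finite.of_injective _ Subtype.val_injective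
    let fX : X →+ X := (T.restrict hXT).toAddMonoidHom
    have hit : ∀ (j : ℕ) (x : X), ((⇑fX)^[j] x : V) = (T ^ j) (x : V) := by
      intro j
      induction j with
      | zero => intro x; rfl
      | succ j ih =>
        intro x
        rw [Function.iterate_succ_apply', pow_succ', Module.End.mul_apply, ← ih]
        rfl
    have := dvd_card_sub_one (r := r) fX (fun x => Subtype.ext (by rw [hit, hTr]; rfl))
      (fun x hx => Subtype.ext ((Submodule.disjoint_def.mp hdisj) x
        ((hmemU _).mpr (congrArg Subtype.val hx)) (hX x.2)))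
    rw [Module.natCard_eq_pow_finrank (K := F) (V := X), Nat.card_eq_fintype_card] at this
    exact hrd _ this
  have hWinv : ∀ x ∈ W, T x ∈ W := (hinv t (Commute.refl t)).2
  have hWdim : finrank F W = 2 * m := by
    obtain ⟨c, hc⟩ := hdvd W le_rfl hWinv
    have h1 : finrank F W ≠ 0 := fun h => hWbot (Submodule.finrank_eq_zero.mp h)
    have h2' : finrank F W ≤ 2 * m + 3 := hdim ▸ Submodule.finrank_le W
    rcases c with _ | _ | c
    · omega
    · omega
    · exfalso; nlinarith
  have hUdim : finrank F U = 3 := by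
    have := Submodule.finrank_add_eq_of_isCompl hcompl
    omega
  have hirr : ∀ X : Submodule F V, X ≤ W → (∀ x ∈ X, T x ∈ X) → X ≠ ⊥ → X = W := by
    intro X hX hXT hX0
    refine Submodule.eq_of_le_of_finrank_le hX ?_
    obtain ⟨c, hc⟩ := hdvd X hX hXT
    have : finrank F X ≠ 0 := fun h => hX0 (Submodule.finrank_eq_zero.mp h)
    rcases c with _ | c
    · omega
    · rw [hWdim, hc]; exact Nat.le_mul_of_pos_right _ (by omega)
  -- the field
  let TW : Module.End F W := T.restrict hWinv
  let BW : W →ₗ[F] W →ₗ[F] F := (polarBilin Q).compl₁₂ W.subtype W.subtype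
  have hTW : ∀ (i : ℕ) (x : W), ((TW ^ i) x : V) = (T ^ i) (x : V) := by
    intro i
    induction i with
    | zero => intro x; rfl
    | succ i ih => intro x; rw [pow_succ, pow_succ, Module.End.mul_apply, Module.End.mul_apply]; exact ih (TW x)
  haveI : Nontrivial W := Submodule.nontrivial_iff_ne_bot.mpr hWbot
  obtain ⟨K, hKf, hKa, ι, hKfin, hι, hKdim, hinjK, hbij, hcomK, hnormK⟩ :=
    torus_field (F := F) (W := W) (m := m) hWdim (by omega) BW
      (fun x y => QuadraticMap.polar_comm Q _ _) hndW TW (fun x y => map_polar t (x : V) (y : V)) hr hr2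
      (LinearMap.ext fun x => Subtype.ext (by rw [hTW, hTr]; rfl))
      (fun h => by
        obtain ⟨x, hxW, hx0⟩ := Submodule.exists_mem_ne_zero_of_ne_bot hWbot
        exact hx0 ((Submodule.disjoint_def.mp hdisj) x ((hmemU x).mpr
          (congrArg Subtype.val (LinearMap.congr_fun h ⟨x, hxW⟩))) hxW))
      (fun X hXT hX0 => by
        have h := hirr (X.map W.subtype) (Submodule.map_subtype_le _ _)
          (by rintro _ ⟨y, hy, rfl⟩; exact ⟨TW y, hXT y hy, rfl⟩)
          (fun h => hX0 (Submodule.map_injective_of_injective W.injective_subtype (h.trans (Submodule.map_bot _).symm)))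
        refine Submodule.map_injective_of_injective W.injective_subtype ?_
        rw [h, Submodule.map_subtype_top])
  haveI := hKfin
  obtain ⟨w0, hw0⟩ := exists_ne (0 : W)
  -- restrictions
  have hrestr : ∀ h : orth Q, Commute h t → ∃ k : K, (∀ x : W, (ι k x : V) = h.1 (x : V)) ∧
      k ^ N = 1 := by
    intro h hc
    obtain ⟨k, hk, hkN⟩ := hcomK ((toEnd Q h).restrict (hinv h hc).2) (LinearMap.ext fun x => Subtype.ext (by
      show (toEnd Q h * T) (x : V) = (T * toEnd Q h) (x : V)
      rw [hTdef, ← map_mul, ← map_mul, hc.eq])) (fun x y => map_polar h (x : V) (y : V))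
    exact ⟨k, fun x => by rw [hk]; rfl, hkN⟩
  obtain ⟨S, hS, hSN⟩ := hrestr s (Commute.pow_right (Commute.refl s) _)
  obtain ⟨μ, hμ, hμN⟩ := hrestr u ((Commute.pow_pow (Commute.refl g) N p).pow_right _)
  have hμ1 : μ = 1 := by
    have hμp : μ ^ p = 1 := hι (LinearMap.ext fun x => Subtype.ext (by
      have : ∀ (i : ℕ) (x : W), (ι (μ ^ i) x : V) = (u ^ i).1 (x : V) := by
        intro i
        induction i with
        | zero => intro x; rw [pow_zero, map_one]; rfl
        | succ i ih =>
          intro x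
          rw [pow_succ, pow_succ, coe_mul_apply, ← hμ, map_mul, Module.End.mul_apply]
          exact ih _
      rw [this, ← hu, pow_orderOf_eq_one, map_one]; rfl))
    have := pow_gcd_eq_one.mpr ⟨hμp, hμN⟩
    rwa [hpN, pow_one] at this
  have hinvU : ∀ h : orth Q, Commute h t → ∀ x ∈ U, toEnd Q h x ∈ U := fun h hc => (hinv h hc).1
  let vU : Module.End F U := (toEnd Q u).restrict
    (hinvU u ((Commute.pow_pow (Commute.refl g) N p).pow_right _))
  let aU : Module.End F U := (toEnd Q s).restrict (hinvU s (Commute.pow_right (Commute.refl s) _))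
  have hpowU : ∀ (h : orth Q) (hh : ∀ x ∈ U, toEnd Q h x ∈ U) (j : ℕ) (x : U),
      ((((toEnd Q h).restrict hh) ^ j) x : V) = (h ^ j).1 (x : V) := by
    intro h hh j
    induction j with
    | zero => intro x; rfl
    | succ j ih => intro x; rw [pow_succ, pow_succ, Module.End.mul_apply, coe_mul_apply]; exact ih _
  let BU : U →ₗ[F] U →ₗ[F] F := (polarBilin Q).compl₁₂ U.subtype U.subtype
  obtain ⟨α, hα⟩ := scalar_of_commute_unipotent (p := p) hUdim BU
    (fun x y => QuadraticMap.polar_comm Q _ _) hndU h2 vU aU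
    (fun x y => map_polar u (x : V) (y : V))
    (LinearMap.ext fun x => Subtype.ext (by
      show (u * s).1 (x : V) = (s * u).1 (x : V)
      rw [(Commute.pow_pow (Commute.refl g) N p).eq]))
    (LinearMap.ext fun x => Subtype.ext (by rw [hpowU, ← hu, pow_orderOf_eq_one]; rfl))
    (by
      intro h
      have : u = 1 := orth_ext fun z => by
        obtain ⟨⟨a, b⟩, rfl⟩ := dec.surjective z
        rw [hdec, map_add]
        show u.1 (a : V) + u.1 (b : V) = _
        rw [← hμ b, hμ1, map_one]
        show ((vU a : U) : V) + _ = _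
        rw [h]; rfl
      rw [this, orderOf_one] at hu
      exact hp.ne_one hu.symm)
    (M := N) (LinearMap.ext fun x => Subtype.ext (by rw [hpowU, ← hs, pow_orderOf_eq_one]; rfl))
    hpN.symm
  have hsU : ∀ x : U, s.1 (x : V) = α • (x : V) := fun x =>
    congrArg Subtype.val (LinearMap.congr_fun hα x)
  -- determinant
  have hdetS : LinearMap.det (ι S) = 1 := by
    have hK : Nat.card Kˣ = N * (q ^ m - 1) := by
      rw [Nat.card_units, Module.natCard_eq_pow_finrank (K := F) (V := K), hKdim, Nat.card_eq_fintype_card,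
        ← hq, hN, ← Nat.sq_sub_sq, one_pow, ← pow_mul, mul_comm m]
    have hS0 : S ≠ 0 := fun h => by rw [h, zero_pow hN0.ne'] at hSN; exact zero_ne_one hSN
    obtain ⟨y, hy⟩ := exists_pow_eq hK (x := Units.mk0 S hS0) (Units.ext (by simpa using hSN))
    let χ : K →* F := LinearMap.det.comp ι.toMonoidHom
    have hy' : S = ((y : K)) ^ (q ^ m - 1) := by
      rw [← Units.val_pow_eq_pow_val, hy]; rfl
    show χ S = 1
    rw [hy', map_pow]
    obtain ⟨c, hc⟩ := Nat.sub_one_dvd_pow_sub_one q m
    rw [hc, pow_mul, FiniteField.pow_card_sub_one_eq_one _ ((y.isUnit.map χ).ne_zero), one_pow]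
  have hα1 : α = 1 := by
    have h1 : LinearMap.det (toEnd Q s) = 1 := by
      show ((detHom Q) s) = 1
      rw [hsdef, map_pow, map_eq_one_of_mem_commutator _ hg, one_pow]
    have hconj : toEnd Q s = (dec : (U × W) →ₗ[F] V).comp
        ((LinearMap.prodMap (α • (1 : Module.End F U)) (ι S)).comp (dec.symm : V →ₗ[F] U × W)) := by
      refine LinearMap.ext fun z => ?_
      obtain ⟨⟨a, b⟩, rfl⟩ := dec.surjective z
      simp only [LinearMap.comp_apply, LinearEquiv.coe_coe, LinearEquiv.symm_apply_apply,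
        LinearMap.prodMap_apply]
      rw [hdec, hdec, map_add, toEnd_apply, toEnd_apply, hsU, ← hS]
      rfl
    rw [hconj, LinearMap.det_conj, LinearMap.det_prodMap, hdetS, mul_one, LinearMap.det_smul,
      map_one, mul_one, hUdim] at h1
    haveI : Nontrivial U := Module.nontrivial_of_finrank_eq_succ hUdim
    obtain ⟨x, hx⟩ : ∃ x : U, x ≠ 0 := exists_ne 0
    have hsq : α * α = 1 := by
      obtain ⟨y, hy⟩ : ∃ y : U, polar Q (x : V) y ≠ 0 := by
        by_contra hall; push Not at hall; exact hx (hndU x hall)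
      have := map_polar s (x : V) (y : V)
      rw [hsU, hsU, QuadraticMap.polar_smul_left, QuadraticMap.polar_smul_right, smul_eq_mul, smul_eq_mul,
        ← mul_assoc] at this
      exact mul_eq_right₀ hy |>.mp this
    rw [pow_succ, sq, hsq, one_mul] at h1
    exact h1
  subst hα1
  have hsW : ∀ (j' : ℕ) (x : W), (ι (S ^ j') x : V) = (s ^ j').1 (x : V) := by
    intro j'
    induction j' with
    | zero => intro x; rw [pow_zero, map_one]; rfl
    | succ j' ih =>
      intro x
      rw [pow_succ, pow_succ, coe_mul_apply, ← hS, map_mul, Module.End.mul_apply]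
      exact ih _
  have hsU' : ∀ (j' : ℕ) (x : U), (s ^ j').1 (x : V) = (x : V) := by
    intro j'
    induction j' with
    | zero => intro x; rfl
    | succ j' ih => intro x; rw [pow_succ, coe_mul_apply, hsU, one_smul, ih]
  have hspow : ∀ (j' : ℕ) (a : U) (b : W), b ≠ 0 → (s ^ j').1 ((a : V) + b) = (a : V) + b → N ∣ j' := by
    intro j' a b hb hfix
    rw [map_add, hsU', add_right_inj, ← hsW] at hfix
    have h1 : S ^ j' = 1 := by
      by_contra hne
      refine hb (hinjK (S ^ j' - 1) (sub_ne_zero.mpr hne) b ?_)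
      rw [map_sub, map_one, LinearMap.sub_apply, Module.End.one_apply]
      exact sub_eq_zero.mpr (Subtype.ext hfix)
    rw [← hs]
    refine orderOf_dvd_of_pow_eq_one (orth_ext fun z => ?_)
    obtain ⟨⟨a, b⟩, rfl⟩ := dec.surjective z
    rw [hdec, map_add, hsU', ← hsW, h1, map_one]
    rfl
  -- the permutation on the level set
  let X := {x : V // Q x = 1}
  let ρ : orth Q →* Equiv.Perm X :=
    { toFun := fun h =>
        { toFun := fun x => ⟨h.1 x.1, by rw [map_form, x.2]⟩
          invFun := fun x => ⟨h⁻¹.1 x.1, by rw [map_form, x.2]⟩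
          left_inv := fun x => Subtype.ext (by simp)
          right_inv := fun x => Subtype.ext (by simp) }
      map_one' := Equiv.ext fun x => Subtype.ext rfl
      map_mul' := fun _ _ => Equiv.ext fun x => Subtype.ext rfl }
  have hsign : Equiv.Perm.sign (ρ s) = 1 := by
    have h := map_eq_one_of_mem_commutator (Equiv.Perm.sign.comp ρ) hg
    show (Equiv.Perm.sign.comp ρ) s = 1
    rw [hsdef, map_pow, h, one_pow]
  have hmoved : ∀ x : X, ρ s x = x ↔ (dec.symm x.1).2 = 0 := by
    intro x
    obtain ⟨⟨a, b⟩, he⟩ := dec.surjective x.1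
    rw [← he, LinearEquiv.symm_apply_apply]
    constructor
    · intro h
      by_contra hb
      have h1 : (s ^ 1).1 ((a : V) + b) = (a : V) + b := by
        rw [pow_one, ← hdec (a, b), he]; exact congrArg Subtype.val h
      have := Nat.le_of_dvd one_pos (hspow 1 a b hb h1)
      have : 1 ≤ q ^ m := Nat.one_le_pow _ _ (by omega)
      omega
    · intro hb
      refine Subtype.ext ?_
      show s.1 x.1 = x.1
      change b = 0 at hb
      rw [← he, hdec]; simp only [hb, Submodule.coe_zero, add_zero]
      simpa using hsU' 1 a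
  -- counting
  let ev : K →ₗ[F] W :=
    { toFun := fun k => ι k w0
      map_add' := fun a b => by rw [map_add, LinearMap.add_apply]
      map_smul' := fun c a => by rw [map_smul, LinearMap.smul_apply, RingHom.id_apply] }
  let ψ : K ≃+ W := (LinearEquiv.ofBijective ev (hbij w0 hw0)).toAddEquiv
  let φ : K →ₗ[F] F := (2 : F)⁻¹ • ((polarBilin Q (w0 : V)).comp (W.subtype.comp ev))
  have hQW : ∀ k : K, Q ((ψ k : W) : V) = φ (k ^ N) := by
    intro k
    have h : polar Q ((ev k : W) : V) ((ev k : W) : V) = polar Q (w0 : V) ((ev (k ^ N) : W) : V) := by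
      exact hnormK k w0 w0
    show Q ((ev k : W) : V) = (2 : F)⁻¹ * polar Q (w0 : V) ((ev (k ^ N) : W) : V)
    rw [← h, polar_self_eq, ← mul_assoc, inv_mul_cancel₀ h2, one_mul]
  have hne : ∃ k : K, Q ((ψ k : W) : V) ≠ 0 := by
    by_contra hall; push Not at hall
    have hall' : ∀ x : W, Q (x : V) = 0 := fun x => by
      obtain ⟨k, rfl⟩ := ψ.surjective x; exact hall k
    refine hw0 (hndW w0 fun y => ?_)
    have := QuadraticMap.map_add Q (w0 : V) (y : V)
    rw [← Submodule.coe_add, hall', hall', hall', zero_add, zero_add] at this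
    exact this.symm
  have hKcard : Nat.card K = Nat.card F ^ (2 * m) := by
    rw [Module.natCard_eq_pow_finrank (K := F) (V := K), hKdim]
  choose z hz hzpar using fun c : F =>
    level_parity (W := W) (by rwa [Nat.card_eq_fintype_card]) (K := K) (N := N) (m := m)
      (by rw [Nat.card_eq_fintype_card]) (by omega) hKcard (fun x : W => Q (x : V)) ψ φ hQW hne c
  haveI : Finite U := Finite.of_injective _ Subtype.val_injective
  haveI : Fintype U := Fintype.ofFinite U
  set k := ∑ a : U, z (1 - Q (a : V)) with hk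
  have hsupp : (ρ s).support.card = k * N := by
    rw [hk, Finset.sum_mul]
    let e : {x : X // x ∈ (ρ s).support} ≃ Σ a : U, {b : W // b ≠ 0 ∧ Q (b : V) = 1 - Q (a : V)} :=
      { toFun := fun x => ⟨(dec.symm x.1.1).1, (dec.symm x.1.1).2,
          fun h => Equiv.Perm.mem_support.mp x.2 ((hmoved x.1).mpr h), by
            rw [eq_sub_iff_add_eq, add_comm, ← hQadd, ← hdec, LinearEquiv.apply_symm_apply]
            exact x.1.2⟩
        invFun := fun p => ⟨⟨dec (p.1, p.2.1), by rw [hdec, hQadd, p.2.2.2]; ring⟩, by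
          rw [Equiv.Perm.mem_support, ne_eq, hmoved, LinearEquiv.symm_apply_apply]
          exact p.2.2.1⟩
        left_inv := fun x => Subtype.ext (Subtype.ext (dec.apply_symm_apply x.1.1))
        right_inv := fun p => by
          obtain ⟨a, b, hb⟩ := p
          have h1 : (dec.symm (dec (a, b))) = (a, b) := dec.symm_apply_apply _
          exact Sigma.subtype_ext (congrArg Prod.fst h1) (congrArg Prod.snd h1) }
    rw [← Fintype.card_coe, ← Nat.card_eq_fintype_card, Nat.card_congr e, Nat.card_sigma]
    exact Finset.sum_congr rfl fun a _ => by rw [hz, mul_comm]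
  have hkodd : Odd k := by
    rw [hk, Finset.odd_sum_iff_odd_card_odd]
    have hset : (Finset.univ.filter fun a : U => Odd (z (1 - Q (a : V)))) =
        Finset.univ.filter fun a : U => ¬ Q (a : V) = 1 := by
      refine Finset.filter_congr fun a _ => ?_
      rw [← Nat.not_even_iff_odd, hzpar, sub_eq_zero, eq_comm]
    rw [hset]
    have hsum := Finset.card_filter_add_card_filter_not (s := (Finset.univ : Finset U))
      (fun a : U => Q (a : V) = 1)
    have hev' : Even (Finset.univ.filter fun a : U => Q (a : V) = 1).card := by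
      rw [← Fintype.card_subtype, ← Nat.card_eq_fintype_card]
      refine even_card_of_neg (fun a => ⟨-a.1, by rw [Submodule.coe_neg, QuadraticMap.map_neg, a.2]⟩)
        (fun a => Subtype.ext (neg_neg _)) fun a h => ?_
      have h' : (-a.1 : U) = a.1 := congrArg Subtype.val h
      have h0 : (2 : F) • a.1 = 0 := by rw [two_smul]; exact add_eq_zero_iff_eq_neg.mpr h'.symm
      have ha := a.2
      rw [(smul_eq_zero.mp h0).resolve_left h2, Submodule.coe_zero, QuadraticMap.map_zero] at ha
      exact zero_ne_one ha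
    have hcardU : Odd (Finset.univ : Finset U).card := by
      rw [Finset.card_univ, ← Nat.card_eq_fintype_card, Module.natCard_eq_pow_finrank (K := F) (V := U),
        Nat.card_eq_fintype_card]
      exact hodd.pow
    rw [← hsum] at hcardU
    exact Nat.odd_add'.mp hcardU |>.mpr hev'
  have hfree : ∀ x, ρ s x ≠ x → ∀ i, ((ρ s) ^ i) x = x → N ∣ i := by
    intro x hx i hi
    obtain ⟨⟨a, b⟩, he⟩ := dec.surjective x.1
    have hb : b ≠ 0 := fun hb => hx ((hmoved x).mpr (by rw [← he, LinearEquiv.symm_apply_apply]; exact hb))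
    refine hspow i a b hb ?_
    rw [← hdec (a, b), he]
    rw [← map_pow] at hi
    exact congrArg Subtype.val hi
  have := sign_of_semiregular (ρ s) hNeven hN0 (by rw [← map_pow, ← hs, pow_orderOf_eq_one, map_one])
    hfree hsupp
  rw [hsign, hkodd.neg_one_pow] at this
  exact absurd this (by decide)

end Cfsg.Agent.Spectra36
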